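import Mathlib
import Groth.Agent.MultType.Connected
import Groth.Agent.MultType.InsepDescent

/-! A form of the multiplicative group with a nontrivial character is split. -/

set_option autoImplicit false
set_option linter.style.haveILetI false
set_option linter.unusedSectionVars false

universe u

open TensorProduct MonoidAlgebra
open Groth.Agent.MultType

namespace Groth.Agent.GmIsogLib

noncomputable section

local notation "Z" => Multiplicative ℤ

theorem coord_single' {Q : Type u} [CommRing Q] [DecidableEq Z] (m l : Z) :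
    (MonoidAlgebra.basis Z Q).coord m (MonoidAlgebra.single l 1) = if l = m then 1 else 0 := by
  rw [show (MonoidAlgebra.single l 1 : MonoidAlgebra Q Z) = MonoidAlgebra.basis Z Q l by simp,
    Module.Basis.coord_apply, Module.Basis.repr_self, Finsupp.single_apply]

theorem groupLike_coeff {Q : Type u} [CommRing Q] {x : MonoidAlgebra Q Z} (hx : IsGroupLikeElem Q x) (i j : Z) :
    x.coeff i * x.coeff j = if i = j then x.coeff i else 0 := by
  classical
  let c := fun m => (MonoidAlgebra.basis Z Q).coord m
  have hT : LinearMap.mul' Q Q ∘ₗ TensorProduct.map (c i) (c j) ∘ₗ Coalgebra.comul =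
      if i = j then c i else 0 :=
    (MonoidAlgebra.basis Z Q).ext fun m => by
      split_ifs with h
      · subst h
        simp [c, coord_single', -Module.Basis.coord_apply]
        tauto
      · simp [c, coord_single', -Module.Basis.coord_apply]
        intro h1 h2
        exact absurd (h2.symm.trans h1) h
  have h1 := congr($hT x)
  rw [LinearMap.comp_apply, LinearMap.comp_apply, hx.comul_eq_tmul_self, TensorProduct.map_tmul,
    LinearMap.mul'_apply] at h1
  split_ifs with h
  · rw [if_pos h] at h1; exact h1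
  · rw [if_neg h] at h1; exact h1

/-- Roots of a monomial among the group-like elements are unique. -/
theorem groupLike_unique {Q : Type u} [CommRing Q] {w : MonoidAlgebra Q Z} (hw : IsGroupLikeElem Q w)
    {n : ℕ} (hn : n ≠ 0) (h : w ^ n = MonoidAlgebra.single (Multiplicative.ofAdd (n : ℤ)) (1 : Q)) :
    w = MonoidAlgebra.single (Multiplicative.ofAdd (1 : ℤ)) (1 : Q) := by
  classical
  have hmul : ∀ i, MonoidAlgebra.single 1 (w.coeff i) * w = MonoidAlgebra.single i (w.coeff i) := fun i => by
    refine MonoidAlgebra.ext (Finsupp.ext fun j => ?_)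
    rw [MonoidAlgebra.single_one_mul_apply, MonoidAlgebra.coeff_single, Finsupp.single_apply, groupLike_coeff hw]
  have hpow : ∀ (i : Z) (m : ℕ), MonoidAlgebra.single 1 (w.coeff i) * w ^ m =
      MonoidAlgebra.single (i ^ m) (w.coeff i) := fun i m => by
    induction m with
    | zero => simp
    | succ m ih =>
      rw [pow_succ, ← mul_assoc, ih,
        show MonoidAlgebra.single (i ^ m) (w.coeff i) = MonoidAlgebra.single (i ^ m) (1 : Q) * MonoidAlgebra.single 1 (w.coeff i) by
          rw [MonoidAlgebra.single_mul_single, mul_one, one_mul],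
        mul_assoc, hmul, MonoidAlgebra.single_mul_single, one_mul, pow_succ]
  have hzero : ∀ i, i ≠ Multiplicative.ofAdd (1 : ℤ) → w.coeff i = 0 := by
    intro i hi
    have h1 := hpow i n
    rw [h, MonoidAlgebra.single_mul_single, one_mul, mul_one] at h1
    have h2 := congrArg (fun z : MonoidAlgebra Q Z => z.coeff (i ^ n)) h1
    simp only [MonoidAlgebra.coeff_single, Finsupp.single_eq_same] at h2
    rw [Finsupp.single_apply, if_neg] at h2
    · exact h2.symm
    · intro he
      apply hi
      have h3 := congrArg Multiplicative.toAdd he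
      rw [toAdd_ofAdd, toAdd_pow, nsmul_eq_mul] at h3
      apply Multiplicative.toAdd.injective
      rw [toAdd_ofAdd]
      have hn' : (n : ℤ) ≠ 0 := by exact_mod_cast hn
      exact mul_left_cancel₀ hn' (by rw [← h3, mul_one])
  have hsingle : w = MonoidAlgebra.single (Multiplicative.ofAdd (1 : ℤ)) (w.coeff (Multiplicative.ofAdd (1 : ℤ))) := by
    refine MonoidAlgebra.ext (Finsupp.ext fun i => ?_)
    rw [MonoidAlgebra.coeff_single, Finsupp.single_apply]
    split_ifs with hi
    · rw [hi]
    · exact hzero i (Ne.symm hi)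
  have hε := hw.counit_eq_one
  rw [hsingle, MonoidAlgebra.counit_single] at hε
  rw [hsingle, show w.coeff (Multiplicative.ofAdd (1 : ℤ)) = 1 by simpa using hε]

variable {k : Type u} [Field k] {K : Type u} [Field K] [Algebra k K]

/-- The equaliser of the two maps to `K ⊗ K ⊗ A`. -/
theorem exists_of_map_eq {A : Type u} [CommRing A] [Algebra k A] (x : K ⊗[k] A)
    (h : Algebra.TensorProduct.map (Algebra.TensorProduct.includeLeft : K →ₐ[k] K ⊗[k] K) (AlgHom.id k A) x =
      Algebra.TensorProduct.map (Algebra.TensorProduct.includeRight : K →ₐ[k] K ⊗[k] K) (AlgHom.id k A) x) :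
    ∃ a : A, (1 : K) ⊗ₜ[k] a = x := by
  classical
  let b := Module.Free.chooseBasis k A
  obtain ⟨π, hπ⟩ := (LinearMap.toSpanSingleton k K 1).exists_leftInverse_of_injective
    (LinearMap.ker_eq_bot.mpr (smul_left_injective k one_ne_zero))
  have hπ1 : π 1 = 1 := by simpa using LinearMap.congr_fun hπ 1
  have hc : ∀ c : K, c ⊗ₜ[k] (1 : K) = 1 ⊗ₜ[k] c → algebraMap k K (π c) = c := fun c hc => by
    have h1 := congrArg (fun z => TensorProduct.lid k K (π.rTensor K z)) hc
    simp only [LinearMap.rTensor_tmul, TensorProduct.lid_tmul, hπ1, one_smul] at h1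
    rw [Algebra.algebraMap_eq_smul_one, h1]
  let B := Algebra.TensorProduct.basis K b
  have hcoord : ∀ i, algebraMap k K (π (B.repr x i)) = B.repr x i := fun i => hc _ <| by
    have h1 := coord_map (Algebra.TensorProduct.includeLeft : K →ₐ[k] K ⊗[k] K) b x i
    have h2 := coord_map (Algebra.TensorProduct.includeRight : K →ₐ[k] K ⊗[k] K) b x i
    rw [h, h2] at h1
    simpa using h1.symm
  refine ⟨(B.repr x).sum fun i c => π c • b i, ?_⟩
  conv_rhs => rw [← B.linearCombination_repr x, Finsupp.linearCombination_apply]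
  rw [Finsupp.sum, Finsupp.sum, TensorProduct.tmul_sum]
  refine Finset.sum_congr rfl fun i _ => ?_
  rw [TensorProduct.tmul_smul, Algebra.TensorProduct.basis_apply]
  conv_rhs => rw [← hcoord i, algebraMap_smul]

variable {A : Type u} [CommRing A] [HopfAlgebra k A]

theorem descend_nat (e : K ⊗[k] A ≃ₐc[K] MonoidAlgebra K Z) (a : A) (n : ℕ) (hn : n ≠ 0)
    (ha : e ((1 : K) ⊗ₜ[k] a) = MonoidAlgebra.single (Multiplicative.ofAdd (n : ℤ)) (1 : K)) :
    Nonempty (A ≃ₐc[k] MonoidAlgebra k Z) := by
  classical
  let T : Z := Multiplicative.ofAdd (1 : ℤ)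
  let x : K ⊗[k] A := e.symm (MonoidAlgebra.single T 1)
  have hx : IsGroupLikeElem K x := (MonoidAlgebra.isGroupLikeElem_single_one (R := K) (A := K) T).map e.symm
  have hxn : x ^ n = (1 : K) ⊗ₜ[k] a := by
    show (e.symm (MonoidAlgebra.single T 1)) ^ n = _
    rw [← map_pow, MonoidAlgebra.single_pow, one_pow,
      show T ^ n = Multiplicative.ofAdd (n : ℤ) by apply Multiplicative.toAdd.injective; simp [T], ← ha]
    exact e.symm_apply_apply _
  let Q := K ⊗[k] K
  let i₁ : K →ₐ[k] Q := Algebra.TensorProduct.includeLeft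
  let i₂ : K →ₐ[k] Q := Algebra.TensorProduct.includeRight
  let v₁ : Q ⊗[k] A := Algebra.TensorProduct.map i₁ (AlgHom.id k A) x
  let v₂ : Q ⊗[k] A := Algebra.TensorProduct.map i₂ (AlgHom.id k A) x
  have hv : v₁ = v₂ := by
    let e' := scalarEquiv Q e
    let r : Q ⊗[K] (K ⊗[k] A) →ₐc[Q] Q ⊗[k] A :=
      BialgHom.ofAlgHom (Algebra.TensorProduct.cancelBaseChange k K Q Q A).toAlgHom
        (by ext a; simp [Algebra.smul_def, ← IsScalarTower.algebraMap_apply]) (by
          ext a
          simp [TensorProduct.comul_tmul]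
          generalize Coalgebra.comul (R := k) a = y
          induction y using TensorProduct.induction_on with
          | zero => simp
          | tmul p q => simp
          | add p q hp hq => simp [TensorProduct.tmul_add, hp, hq])
    have hr : Function.Bijective r := (Algebra.TensorProduct.cancelBaseChange k K Q Q A).bijective
    let f : Q ⊗[k] A ≃ₐc[Q] MonoidAlgebra Q Z := (BialgEquiv.ofBijective r hr).symm.trans e'
    have hf : ∀ y : K ⊗[k] A, f (Algebra.TensorProduct.map i₁ (AlgHom.id k A) y) = e' ((1 : Q) ⊗ₜ[K] y) := by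
      intro y
      show e' ((BialgEquiv.ofBijective r hr).symm _) = _
      congr 1
      apply (BialgEquiv.ofBijective r hr).injective
      refine ((BialgEquiv.ofBijective r hr).apply_symm_apply _).trans ?_
      show Algebra.TensorProduct.map i₁ (AlgHom.id k A) y =
        Algebra.TensorProduct.cancelBaseChange k K Q Q A ((1 : Q) ⊗ₜ[K] y)
      induction y using TensorProduct.induction_on with
      | zero => simp
      | tmul c b =>
        simp [i₁, Algebra.smul_def]
        rfl
      | add p q hp hq => rw [map_add, TensorProduct.tmul_add, map_add, hp, hq]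
    have he' : ∀ m, e' ((1 : Q) ⊗ₜ[K] e.symm (MonoidAlgebra.single m 1)) = MonoidAlgebra.single m 1 := fun m => by
      apply e'.symm.injective
      refine (e'.symm_apply_apply _).trans ?_
      simp [e', scalarEquiv]
      exact ((MonoidAlgebra.lift_single _ _ _).trans (one_smul _ _)).symm
    have h1 : f v₁ = MonoidAlgebra.single T 1 := by rw [hf]; exact he' T
    have hsame : v₂ ^ n = v₁ ^ n := by
      have hp : ∀ i : K →ₐ[k] Q, (Algebra.TensorProduct.map i (AlgHom.id k A) x) ^ n = (1 : Q) ⊗ₜ[k] a := fun i => by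
        rw [← map_pow]
        refine (congrArg _ hxn).trans ?_
        simp
      exact (hp i₂).trans (hp i₁).symm
    have hw : IsGroupLikeElem Q (f v₂) := (isGroupLikeElem_map i₂ hx).map f
    refine EquivLike.injective f (h1.trans (groupLike_unique hw hn ?_).symm)
    rw [← map_pow, hsame, map_pow, h1, MonoidAlgebra.single_pow, one_pow]
    congr 1
    apply Multiplicative.toAdd.injective
    simp [T]
  obtain ⟨t, ht⟩ := exists_of_map_eq x hv
  have htgl : IsGroupLikeElem k t := by
    have h1 : IsGroupLikeElem k ((1 : k) ⊗ₜ[k] t) := by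
      refine isGroupLikeElem_of_map (Algebra.ofId k K) (RingHom.injective _) ?_ ?_
      · exact Module.Flat.rTensor_preserves_injective_linearMap (M := A ⊗[k] A)
          (Algebra.linearMap k K) (RingHom.injective _)
      · rw [Algebra.TensorProduct.map_tmul, map_one, AlgHom.id_apply, ht]
        exact hx
    have h2 := h1.map (Bialgebra.TensorProduct.lid k A)
    simpa using h2
  obtain ⟨tu, htu⟩ := isUnit_of_isGroupLikeElem htgl
  have hgl : ∀ m : Z, IsGroupLikeElem k ((zpowersHom Aˣ tu m : Aˣ) : A) := fun m => by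
    have hinv : IsGroupLikeElem k ((tu⁻¹ : Aˣ) : A) := IsGroupLikeElem.of_mul_eq_one tu.mul_inv tu.inv_mul (htu.symm ▸ htgl)
    have hN : ∀ (y : A), IsGroupLikeElem k y → ∀ j : ℕ, IsGroupLikeElem k (y ^ j) := fun y hy j => hy.pow
    obtain ⟨j, hj | hj⟩ := Int.eq_nat_or_neg m.toAdd
    · rw [zpowersHom_apply, hj, zpow_natCast, Units.val_pow_eq_pow_val, htu]
      exact hN t htgl j
    · rw [zpowersHom_apply, hj, zpow_neg, zpow_natCast, ← inv_pow, Units.val_pow_eq_pow_val]
      exact hN _ hinv j
  let φ : MonoidAlgebra k Z →ₐc[k] A :=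
    BialgHom.ofAlgHom (MonoidAlgebra.lift k A Z ((Units.coeHom A).comp (zpowersHom Aˣ tu)))
      (by ext m; simp [(hgl m).counit_eq_one, -zpowersHom_apply]) (by ext m; simp [(hgl m).comul_eq_tmul_self, -zpowersHom_apply])
  have hφT : φ (MonoidAlgebra.single T 1) = t := by simp [φ, T, htu]
  let F : MonoidAlgebra k Z →ₐ[k] MonoidAlgebra K Z :=
    ((e : K ⊗[k] A →ₐc[K] MonoidAlgebra K Z) : K ⊗[k] A →ₐ[K] MonoidAlgebra K Z).restrictScalars k |>.comp
      (Algebra.TensorProduct.includeRight.comp (φ : MonoidAlgebra k Z →ₐ[k] A))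
  have hFT : F (MonoidAlgebra.single T 1) = MonoidAlgebra.single T 1 := by
    show e ((1 : K) ⊗ₜ[k] φ (MonoidAlgebra.single T 1)) = _
    rw [hφT, ht]
    exact e.apply_symm_apply _
  have hFi : ∀ m : Z, F (MonoidAlgebra.single m 1) = MonoidAlgebra.single m 1 := by
    have hh : (F : MonoidAlgebra k Z →* MonoidAlgebra K Z).comp (MonoidAlgebra.of k Z) = MonoidAlgebra.of K Z :=
      MonoidHom.ext_mint hFT
    exact fun m => DFunLike.congr_fun hh m
  have hFc : ∀ (z : MonoidAlgebra k Z) (m : Z), (F z).coeff m = algebraMap k K (z.coeff m) := by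
    intro z m
    induction z using MonoidAlgebra.induction_linear with
    | zero => simp
    | add p q hp hq => simp [map_add, hp, hq]
    | single l c =>
      rw [show (MonoidAlgebra.single l c : MonoidAlgebra k Z) = c • MonoidAlgebra.single l 1 by
        rw [MonoidAlgebra.smul_single, smul_eq_mul, mul_one], map_smul, hFi]
      rw [MonoidAlgebra.smul_single, MonoidAlgebra.coeff_single, MonoidAlgebra.coeff_smul, MonoidAlgebra.coeff_single, Finsupp.smul_apply]
      simp [Finsupp.single_apply, Algebra.smul_def, apply_ite]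
      split_ifs <;> simp_all
  refine ⟨(BialgEquiv.ofBijective φ ⟨fun p q h => ?_, ?_⟩).symm⟩
  · refine MonoidAlgebra.ext (Finsupp.ext fun m => (algebraMap k K).injective ?_)
    rw [← hFc, ← hFc]
    show (e ((1 : K) ⊗ₜ[k] φ p)).coeff m = (e ((1 : K) ⊗ₜ[k] φ q)).coeff m
    rw [h]
  · refine (Module.FaithfullyFlat.lTensor_surjective_iff_surjective k K (φ : MonoidAlgebra k Z →ₐ[k] A).toLinearMap).mp ?_
    intro y
    suffices hy : ∀ z : MonoidAlgebra K Z, ∃ p, ((φ : MonoidAlgebra k Z →ₐ[k] A).toLinearMap.lTensor K) p = e.symm z by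
      obtain ⟨p, hp⟩ := hy (e y)
      exact ⟨p, hp.trans (e.symm_apply_apply y)⟩
    intro z
    induction z using MonoidAlgebra.induction_linear with
    | zero => exact ⟨0, by simp⟩
    | add p q hp hq =>
      obtain ⟨p', hp⟩ := hp
      obtain ⟨q', hq⟩ := hq
      exact ⟨p' + q', by rw [map_add, map_add, hp, hq]⟩
    | single l c =>
      refine ⟨c ⊗ₜ MonoidAlgebra.single l 1, ?_⟩
      rw [LinearMap.lTensor_tmul]
      apply EquivLike.injective e
      rw [BialgEquiv.apply_symm_apply]
      show e (c ⊗ₜ[k] φ (MonoidAlgebra.single l 1)) = _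
      rw [show c ⊗ₜ[k] φ (MonoidAlgebra.single l 1) = c • ((1 : K) ⊗ₜ[k] φ (MonoidAlgebra.single l 1)) by
        rw [TensorProduct.smul_tmul', smul_eq_mul, mul_one], map_smul]
      show c • F (MonoidAlgebra.single l 1) = _
      rw [hFi, MonoidAlgebra.smul_single, smul_eq_mul, mul_one]

/-- A form of `𝔾ₘ` with a nontrivial character is split. -/
theorem descend (e : K ⊗[k] A ≃ₐc[K] MonoidAlgebra K Z) (a : A) (n : ℤ) (hn : n ≠ 0)
    (ha : e ((1 : K) ⊗ₜ[k] a) = MonoidAlgebra.single (Multiplicative.ofAdd n) (1 : K)) :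
    Nonempty (A ≃ₐc[k] MonoidAlgebra k Z) := by
  obtain ⟨j, rfl | rfl⟩ := n.eq_nat_or_neg
  · exact descend_nat e a j (by exact_mod_cast hn) ha
  · let h := MonoidAlgebra.mapDomainBialgHom K (MulEquiv.inv Z).toMonoidHom
    have hh : Function.Involutive h := fun z => by
      induction z using MonoidAlgebra.induction_linear with
      | zero => simp
      | add p q hp hq => simp [map_add, hp, hq]
      | single l c => simp [h]
    let ι : MonoidAlgebra K Z ≃ₐc[K] MonoidAlgebra K Z := BialgEquiv.ofBijective h hh.bijective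
    refine descend_nat (e.trans ι) a j (by simpa using hn) ?_
    show ι (e ((1 : K) ⊗ₜ[k] a)) = _
    rw [ha]
    simp [ι, h]

end

end Groth.Agent.GmIsogLib
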