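import Mathlib
import Groth.Agent.GmIsogLib.Descend
import Groth.Agent.OneDimLib.Main
import Groth.Agent.OneDimLib.Descent
import Groth.Agent.Comodule.ConnDomain
import Groth.Agent.NeronEtLib.Alg

/-! A connected smooth algebra finite over the functions of the multiplicative group. -/

set_option autoImplicit false
set_option linter.style.haveILetI false
set_option linter.unusedSectionVars false

universe u

open TensorProduct MonoidAlgebra WithConv

namespace Groth.Agent.GmIsogLib

noncomputable section

local notation "Z" => Multiplicative ℤ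

theorem one_le_ringKrullDim_laurent (K : Type u) [Field K] : ringKrullDim (MonoidAlgebra K Z) = 1 := by
  let e : MonoidAlgebra K Z ≃+* LaurentPolynomial K :=
    (MonoidAlgebra.toAdditiveAlgEquiv K K Z).toRingEquiv
  refine le_antisymm ?_ ?_
  · rw [ringKrullDim_eq_of_ringEquiv e]
    have h : Ring.KrullDimLE 1 (LaurentPolynomial K) :=
      Ring.krullDimLE_one_iff_of_noZeroDivisors.mpr fun P hP hPp => by
        haveI := hPp
        have hback : ∀ M : Ideal (LaurentPolynomial K),
            Ideal.map (algebraMap (Polynomial K) (LaurentPolynomial K)) (M.under (Polynomial K)) = M :=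
          IsLocalization.map_under (Submonoid.powers (Polynomial.X : Polynomial K)) (LaurentPolynomial K)
        have hne : P.under (Polynomial K) ≠ ⊥ := fun h => hP (by rw [← hback P, h, Ideal.map_bot])
        have hmax : (P.under (Polynomial K)).IsMaximal :=
          (inferInstance : (P.under (Polynomial K)).IsPrime).isMaximal hne
        refine ⟨⟨hPp.ne_top, fun J hJ => ?_⟩⟩
        by_contra hJt
        obtain ⟨M, hM, hJM⟩ := J.exists_le_maximal hJt
        have h1 : P.under (Polynomial K) = M.under (Polynomial K) :=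
          hmax.eq_of_le (inferInstance : (M.under (Polynomial K)).IsPrime).ne_top (Ideal.comap_mono (hJ.le.trans hJM))
        have h2 : P = M := by rw [← hback P, h1, hback M]
        exact hJ.not_ge (hJM.trans h2.ge)
    exact Order.krullDimLE_iff 1 _ |>.mp h
  · by_contra h
    have hle : ringKrullDim (MonoidAlgebra K Z) ≤ 0 := by
      have := Order.le_of_lt_succ (show ringKrullDim (MonoidAlgebra K Z) < Order.succ (0 : WithBot ℕ∞) from
        (not_le.mp h).trans_le (by simp [Order.succ]; rfl))
      exact this
    have h0 : Ring.KrullDimLE 0 (MonoidAlgebra K Z) := (Order.krullDimLE_iff 0 _).mpr (by show ringKrullDim _ ≤ _; simpa using hle)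
    have hf : IsField (MonoidAlgebra K Z) := Ring.KrullDimLE.isField_of_isDomain
    let x : MonoidAlgebra K Z := MonoidAlgebra.single (Multiplicative.ofAdd (1 : ℤ)) 1 - 1
    have hx : x ≠ 0 := fun h1 => by
      have h2 := sub_eq_zero.mp h1
      rw [MonoidAlgebra.one_def] at h2
      exact absurd (MonoidAlgebra.single_left_injective one_ne_zero h2) (by decide)
    obtain ⟨b, hb⟩ := hf.mul_inv_cancel hx
    have h3 := congrArg (Bialgebra.counitAlgHom K (MonoidAlgebra K Z)) hb
    rw [map_mul, map_one, show Bialgebra.counitAlgHom K (MonoidAlgebra K Z) x = 0 by simp [x], zero_mul] at h3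
    exact zero_ne_one h3

variable {k : Type u} [Field k] {A : Type u} [CommRing A] [HopfAlgebra k A]

theorem nonempty_bialgEquiv [Algebra.Smooth k A] (g : MonoidAlgebra k Z →ₐc[k] A)
    (hfin : (g : MonoidAlgebra k Z →+* A).Finite) (hinj : Function.Injective g)
    (hconn : ∀ e : A, IsIdempotentElem e → e = 0 ∨ e = 1) :
    Nonempty (A ≃ₐc[k] MonoidAlgebra k Z) := by
  classical
  let K := AlgebraicClosure k
  let B := K ⊗[k] A
  haveI : IsReduced B := NeronEtLib.isReduced_of_smooth K B
  haveI : Algebra.FiniteType K B := inferInstance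
  haveI : IsNoetherianRing B := Algebra.FiniteType.isNoetherianRing K B
  haveI : IsDomain B := Comodule.ConnDomain.isDomain_of_connected K
    (fun e he => OneDimLib.idempotent_baseChange (Bialgebra.counitAlgHom k A) hconn e he)
  let E := MultType.scalarEquiv K (BialgEquiv.refl k (MonoidAlgebra k Z))
  let gK : MonoidAlgebra K Z →ₐc[K] B :=
    (Bialgebra.TensorProduct.map (BialgHom.id K K) g).comp (E.symm : MonoidAlgebra K Z →ₐc[K] K ⊗[k] MonoidAlgebra k Z)
  have hgK : ∀ p : MonoidAlgebra k Z, gK (E ((1 : K) ⊗ₜ[k] p)) = (1 : K) ⊗ₜ[k] g p := fun p => by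
    show Bialgebra.TensorProduct.map (BialgHom.id K K) g (E.symm (E _)) = _
    rw [show E.symm (E ((1 : K) ⊗ₜ[k] p)) = (1 : K) ⊗ₜ[k] p from E.symm_apply_apply _]
    rfl
  have hgKs : ∀ m : Z, gK (MonoidAlgebra.single m 1) = (1 : K) ⊗ₜ[k] g (MonoidAlgebra.single m 1) := fun m => by
    rw [← hgK, show E ((1 : K) ⊗ₜ[k] MonoidAlgebra.single m 1) = MonoidAlgebra.single m 1 by
      apply EquivLike.injective E.symm
      refine (E.symm_apply_apply _).trans ?_
      simp [E, MultType.scalarEquiv]
      exact ((MonoidAlgebra.lift_single _ _ _).trans (one_smul _ _)).symm]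
  have hmap : Function.Injective (Bialgebra.TensorProduct.map (BialgHom.id K K) g) :=
    Module.Flat.lTensor_preserves_injective_linearMap (M := K) (g : MonoidAlgebra k Z →ₐ[k] A).toLinearMap hinj
  have hgKinj : Function.Injective gK := hmap.comp (EquivLike.injective E.symm)
  -- finiteness
  letI : Algebra (MonoidAlgebra K Z) B := (gK : MonoidAlgebra K Z →+* B).toAlgebra
  haveI : Module.Finite (MonoidAlgebra K Z) B := by
    letI : Algebra (MonoidAlgebra k Z) A := (g : MonoidAlgebra k Z →+* A).toAlgebra
    haveI : Module.Finite (MonoidAlgebra k Z) A := hfin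
    obtain ⟨s, hs⟩ := (Module.Finite.fg_top : (⊤ : Submodule (MonoidAlgebra k Z) A).FG)
    refine ⟨⟨s.image fun x => (1 : K) ⊗ₜ[k] x, Submodule.eq_top_iff'.mpr fun z => ?_⟩⟩
    induction z using TensorProduct.induction_on with
    | zero => exact zero_mem _
    | add p q hp hq => exact add_mem hp hq
    | tmul c x =>
      have hx : x ∈ Submodule.span (MonoidAlgebra k Z) (s : Set A) := hs.symm ▸ Submodule.mem_top
      induction hx using Submodule.span_induction generalizing c with
      | mem x hx =>
        rw [show c ⊗ₜ[k] x = algebraMap K (MonoidAlgebra K Z) c • ((1 : K) ⊗ₜ[k] x) by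
          rw [Algebra.smul_def]
          show _ = gK (algebraMap K (MonoidAlgebra K Z) c) * _
          rw [AlgHomClass.commutes, Algebra.TensorProduct.algebraMap_apply, Algebra.TensorProduct.tmul_mul_tmul,
            one_mul, Algebra.algebraMap_self, RingHom.id_apply, mul_one]]
        exact Submodule.smul_mem _ _ (Submodule.subset_span (Finset.mem_image_of_mem _ hx))
      | zero => rw [TensorProduct.tmul_zero]; exact zero_mem _
      | add a b _ _ ha hb => rw [TensorProduct.tmul_add]; exact add_mem (ha c) (hb c)
      | smul r a _ ha =>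
        rw [show c ⊗ₜ[k] (r • a) = E ((1 : K) ⊗ₜ[k] r) • (c ⊗ₜ[k] a) by
          rw [Algebra.smul_def (E _)]
          show _ = gK (E _) * _
          rw [hgK, Algebra.TensorProduct.tmul_mul_tmul, one_mul]
          rfl]
        exact Submodule.smul_mem _ _ (ha c)
  have hdim : ringKrullDim B = 1 :=
    (GrSegreLib.ringKrullDim_eq_of_integral_injective (algebraMap (MonoidAlgebra K Z) B) hgKinj
      (fun x => Algebra.IsIntegral.isIntegral (R := MonoidAlgebra K Z) x)).symm.trans (one_le_ringKrullDim_laurent K)
  haveI := OneDimLib.isCocomm_of_comm (OneDimLib.pts_comm (k := K) (A := B) hdim)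
  let T : Z := Multiplicative.ofAdd 1
  have hu : IsGroupLikeElem K (gK (MonoidAlgebra.single T 1)) :=
    (MonoidAlgebra.isGroupLikeElem_single_one (R := K) (A := K) T).map gK
  have hne : gK (MonoidAlgebra.single T 1) ≠ 1 := fun h => by
    rw [← map_one gK] at h
    have h2 := hgKinj h
    rw [MonoidAlgebra.one_def] at h2
    exact absurd (MonoidAlgebra.single_left_injective one_ne_zero h2) (by decide)
  have hch : OneDimLib.IsChar (k := K) (gK (MonoidAlgebra.single T 1)) := by
    refine ⟨?_, fun σ τ => ?_, hne⟩
    · rw [AlgHom.convOne_apply]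
      simp [hu.counit_eq_one]
    · rw [AlgHom.convMul_apply, hu.comul_eq_tmul_self]
      simp
  obtain ⟨e⟩ := OneDimLib.nonempty_equiv_Gm hdim (OneDimLib.isDiagonalizable_of_char hdim hch)
  obtain ⟨m, hm⟩ := MonoidAlgebra.isGroupLikeElem_iff_mem_range_of.1 (hu.map e)
  have hm0 : m.toAdd ≠ 0 := fun h0 => hne (EquivLike.injective e (by
    rw [map_one, ← hm, show m = 1 from Multiplicative.toAdd.injective (by simpa using h0)]
    rfl))
  refine descend e (g (MonoidAlgebra.single T 1)) m.toAdd hm0 ?_
  rw [← hgKs, ← hm]
  rfl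

end

end Groth.Agent.GmIsogLib
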